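import Cfsg.Agent.H209.PiSpor.Row
import Cfsg.Agent.H326.PiC.Hyp
import Cfsg.Agent.H208.Pi.Fun
import Cfsg.Agent.H618.Pi.ExistsProd

/-!
# S4324, sporadic rows: `RowP` from the factorization of the order (helper393)

`rowP_of_list` : the row from the noncyclic primes, for the groups where `s - 1 ≤ mm r` for all primes `s ∣ |K|`,
`r < s`, `r ∤ |K|`.
-/

set_option autoImplicit false

namespace Cfsg.Agent.H393.PiSpor

open Subgroup Cfsg Cfsg.Agent.H216.Pi Cfsg.Agent.H209.PiSpor

universe u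

theorem funHyp : H326.PiC.FunHyp.{u} := fun _ _ _ _ hs hcyc _ hy => H208.Pi.exists_fun hs hcyc hy

theorem prodHyp : H326.PiC.ProdHyp.{u, u} := fun _ _ _ _ _ h hconj hgen I a χ₁ h1 hI ha _ he =>
  H618.Pi.exists_prod h hconj hgen I a χ₁ h1 hI ha he

theorem false_of_cyclic {K : Type u} [Group K] [Finite K] [IsSimpleGroup K] (hK : ¬ IsMulCommutative K) {s m : ℕ}
    (hs : s.Prime) (hd : s ∣ Nat.card K) (hcyc : ∀ P : Sylow s K, IsCyclic (P : Subgroup K)) {x : MulAut K}
    (hx : (orderOf x).Prime) (hxs : orderOf x ≠ s) (hm : s - 1 ≤ m) (h : FC s m x) : False :=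
  H326.PiC.false_of_cyclic_of funHyp prodHyp hK hs hd hcyc hx hxs hm h

theorem factorization_prod (L : List (ℕ × ℕ)) (hL : ∀ x ∈ L, x.1.Prime) (hnd : (L.map Prod.fst).Nodup) :
    ∀ x ∈ L, ((L.map fun y : ℕ × ℕ => y.1 ^ y.2).prod).factorization x.1 = x.2 := by
  induction L with
  | nil => simp
  | cons a L ih =>
    have ha := hL a (by simp)
    have hL' : ∀ x ∈ L, x.1.Prime := fun x hx => hL x (by simp [hx])
    rw [List.map_cons, List.nodup_cons] at hnd
    have hP : ((L.map fun y : ℕ × ℕ => y.1 ^ y.2).prod) ≠ 0 := by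
      refine List.prod_ne_zero fun h0 => ?_
      rw [List.mem_map] at h0
      obtain ⟨y, hy, hy0⟩ := h0
      exact pow_ne_zero _ (hL' y hy).ne_zero hy0
    intro x hx
    rw [List.map_cons, List.prod_cons, Nat.factorization_mul (pow_ne_zero _ ha.ne_zero) hP, Finsupp.add_apply,
      Nat.factorization_pow, Finsupp.smul_apply, smul_eq_mul]
    rcases List.mem_cons.1 hx with rfl | hx'
    · rw [ha.factorization_self, mul_one]
      have : ¬ x.1 ∣ (L.map fun y : ℕ × ℕ => y.1 ^ y.2).prod := by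
        intro hd
        obtain ⟨z, hz, hzd⟩ := (Prime.dvd_prod_iff ha.prime).1 hd
        rw [List.mem_map] at hz
        obtain ⟨y, hy, rfl⟩ := hz
        have := (Nat.prime_dvd_prime_iff_eq ha (hL' y hy)).1 (ha.dvd_of_dvd_pow hzd)
        apply hnd.1
        rw [this]
        exact List.mem_map_of_mem hy
      rw [Nat.factorization_eq_zero_of_not_dvd this, add_zero]
    · rw [ih hL' hnd.2 x hx']
      have hne : x.1 ≠ a.1 := by
        intro h
        apply hnd.1
        rw [← h]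
        exact List.mem_map_of_mem hx'
      rw [Nat.Prime.factorization ha, Finsupp.single_apply, if_neg hne.symm, mul_zero, zero_add]

/-- `r` is small, divides `N`, is not prime, or `a ≤ mm r` -/
def okr (N a r : ℕ) : Bool :=
  (r.blt 3) || (Nat.beq (N % r) 0) || ((List.range r).any fun d => (Nat.ble 2 d) && Nat.beq (r % d) 0) ||
    (a.ble (max 11 (2 * (r - 2))))

theorem le_of_okr {N a r : ℕ} (h : okr N a r = true) (hr : r.Prime) (h3 : 3 ≤ r) (hd : ¬ r ∣ N) : a ≤ mm r := by
  unfold okr at h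
  rw [Bool.or_eq_true, Bool.or_eq_true, Bool.or_eq_true] at h
  rcases h with ((h | h) | h) | h
  · have := Nat.blt_eq ▸ h
    omega
  · exact absurd (Nat.dvd_of_mod_eq_zero (Nat.eq_of_beq_eq_true h)) hd
  · exfalso
    rw [List.any_eq_true] at h
    obtain ⟨d, h1, h2⟩ := h
    rw [List.mem_range] at h1
    rw [Bool.and_eq_true] at h2
    have h4 : d ∣ r := Nat.dvd_of_mod_eq_zero (Nat.eq_of_beq_eq_true h2.2)
    have h5 : 2 ≤ d := Nat.ble_eq ▸ h2.1
    rcases (Nat.dvd_prime hr).1 h4 with h6 | h6 <;> omega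
  · exact Nat.ble_eq ▸ h

/-- the check of the list -/
def chkL (N : ℕ) (L : List (ℕ × ℕ)) : Bool :=
  L.all fun x => (x.1.blt 3) || (List.range x.1).all (okr N (bif Nat.beq x.2 1 then x.1 - 1 else mm x.1))

theorem rowP_of_list {K : Type u} [Group K] [Finite K] [IsSimpleGroup K] (hK : ¬ IsMulCommutative K)
    (L : List (ℕ × ℕ)) (hL : ∀ x ∈ L, x.1.Prime) (hnd : (L.map Prod.fst).Nodup) {N : ℕ} (hN : Nat.card K = N)
    (hNL : N = (L.map fun y : ℕ × ℕ => y.1 ^ y.2).prod) (hchk : chkL N L = true)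
    (hnc : ∀ x ∈ L, 3 ≤ x.1 → x.2 ≠ 1 → NCs x.1 K) : RowP K := by
  refine rowP_of fun s hs h3 hd => ?_
  have hd' := hd
  rw [hN, hNL] at hd'
  obtain ⟨z, hz, hzd⟩ := (Prime.dvd_prod_iff hs.prime).1 hd'
  rw [List.mem_map] at hz
  obtain ⟨x, hx, rfl⟩ := hz
  have hpx := (Nat.prime_dvd_prime_iff_eq hs (hL x hx)).1 (hs.dvd_of_dvd_pow hzd)
  subst hpx
  have h1 := List.all_eq_true.1 hchk x hx
  rw [Bool.or_eq_true] at h1
  have h2 : (List.range x.1).all (okr N (bif Nat.beq x.2 1 then x.1 - 1 else mm x.1)) = true := by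
    rcases h1 with h1 | h1
    · have := Nat.blt_eq ▸ h1
      omega
    · exact h1
  rw [List.all_eq_true] at h2
  by_cases he : x.2 = 1
  · have hcard : ∀ P : Sylow x.1 K, IsCyclic (P : Subgroup K) := by
      intro P
      have hf : Fact x.1.Prime := ⟨hs⟩
      have h4 : Nat.card P = x.1 := by
        rw [P.card_eq_multiplicity, hN, hNL, factorization_prod L hL hnd x hx, he, pow_one]
      exact isCyclic_of_prime_card h4
    have h5 : Nat.beq x.2 1 = true := by rw [he]; rfl
    rw [h5, cond_true] at h2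
    refine ⟨fun y hy hys _ hFC => false_of_cyclic hK hs hd hcard hy hys (sub_one_le_mm h3) hFC,
      fun r hr hr3 hrs hrd y hy hys _ hFC => false_of_cyclic hK hs hd hcard hy hys ?_ hFC⟩
    exact le_of_okr (h2 r (List.mem_range.2 hrs)) hr hr3 (by rwa [hN] at hrd)
  · have h5 : Nat.beq x.2 1 = false := by
      rw [← Bool.not_eq_true]
      exact fun h => he (Nat.eq_of_beq_eq_true h)
    rw [h5, cond_false] at h2
    have h6 := hnc x hx h3 he
    refine ⟨h6, fun r hr hr3 hrs hrd => cyr_of_ncs h6 ?_⟩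
    exact le_of_okr (h2 r (List.mem_range.2 hrs)) hr hr3 (by rwa [hN] at hrd)

end Cfsg.Agent.H393.PiSpor
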